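import Groth.Prelude.Def_DRing2
import Mathlib.Algebra.Homology.HomotopyCategory.MappingCone
import Mathlib.CategoryTheory.Limits.Constructions.EventuallyConstant
import Mathlib.CategoryTheory.Functor.OfSequence
import Mathlib.Algebra.Category.ModuleCat.Colimits
import Mathlib.Algebra.Category.ModuleCat.Biproducts
import Mathlib.RingTheory.Finiteness.Prod
import Mathlib.LinearAlgebra.FreeModule.Basic
import Mathlib.Algebra.Homology.ShortComplex.ModuleCat
import Mathlib.Algebra.Homology.HomologicalComplexLimits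

/-!
# Finite free approximations of bounded above complexes over a ring which need not be commutative

This repeats `Groth.Agent.Lib.DCxRing.Step` and `Approx` without commutativity.
-/

set_option linter.style.haveILetI false

universe u

open CategoryTheory Limits HomologicalComplex CochainComplex CochainComplex.HomComplex

namespace GrothLib.PCRing24

variable {R : Type u} [Ring R]

/-- Cochain complexes of modules. -/
abbrev Cpx (R : Type u) [Ring R] : Type (u + 1) := CochainComplex (ModuleCat.{u} R) ℤ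

/-- The complex vanishes outside `[a, b]`. -/
def VanishesOutside (P : Cpx R) (a b : ℤ) : Prop := ∀ i : ℤ, i < a ∨ b < i → IsZero (P.X i)

/-- The complex vanishes above `b`. -/
def VanishesAbove (P : Cpx R) (b : ℤ) : Prop := ∀ i : ℤ, b < i → IsZero (P.X i)

/-- Every term is finite free. -/
def TermwiseFiniteFree (P : Cpx R) : Prop := ∀ i : ℤ, Module.Finite R (P.X i) ∧ Module.Free R (P.X i)

lemma comm_apply {X Y Y' Z : ModuleCat.{u} R} {a : X ⟶ Y} {b : Y ⟶ Z} {c : X ⟶ Y'} {d : Y' ⟶ Z}
    (h : a ≫ b = c ≫ d) (x : X) : b.hom (a.hom x) = d.hom (c.hom x) :=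
  congrArg (fun g => g.hom x) h

lemma element_exact (K : Cpx R) (i j k : ℤ) (hij : i + 1 = j) (hjk : j + 1 = k) :
    K.ExactAt j ↔ ∀ x : K.X j, (K.d j k).hom x = 0 → ∃ y : K.X i, (K.d i j).hom y = x := by
  rw [exactAt_iff' K i j k (by simp; omega) (by simp; omega), ShortComplex.moduleCat_exact_iff]
  rfl

/-- R finite homology module is generated by finitely many cycles. -/
lemma exists_cycles (K : Cpx R) (i j k : ℤ) (hij : i + 1 = j) (hjk : j + 1 = k)
    (h : Module.Finite R (K.homology j)) :
    ∃ (r : ℕ) (G : ModuleCat.of R (Fin r → R) ⟶ K.X j), G ≫ K.d j k = 0 ∧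
      ∀ x : K.X j, (K.d j k).hom x = 0 →
        ∃ (a : Fin r → R) (w : K.X i), x = G.hom a + (K.d i j).hom w := by
  let S := K.sc' i j k
  let e : K.homology j ≅ S.homology := ShortComplex.homologyMapIso
    (K.isoSc' i j k (by simp; omega) (by simp; omega))
  let q := (LinearMap.range S.moduleCatToCycles).mkQ
  haveI : Module.Finite R (↥(LinearMap.ker S.g.hom) ⧸ LinearMap.range S.moduleCatToCycles) :=
    Module.Finite.equiv (e ≪≫ S.moduleCatHomologyIso).toLinearEquiv
  obtain ⟨r, π, hπ⟩ := Module.Finite.exists_fin' R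
    (↥(LinearMap.ker S.g.hom) ⧸ LinearMap.range S.moduleCatToCycles)
  obtain ⟨G, hG⟩ := Module.projective_lifting_property q π (Submodule.mkQ_surjective _)
  refine ⟨r, ModuleCat.ofHom ((LinearMap.ker S.g.hom).subtype.comp G), ?_, fun x hx => ?_⟩
  · ext a
    exact (G _).2
  · obtain ⟨a, ha⟩ := hπ (q ⟨x, hx⟩)
    have h0 : q (⟨x, hx⟩ - G a) = 0 := by
      rw [map_sub, ← LinearMap.comp_apply, hG, ha, sub_self]
    obtain ⟨w, hw⟩ := (Submodule.Quotient.mk_eq_zero _).1 h0
    exact ⟨a, w, (eq_add_of_sub_eq' (congrArg Subtype.val hw).symm)⟩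

lemma finiteFree_single (r : ℕ) (m : ℤ) :
    TermwiseFiniteFree
      ((HomologicalComplex.single (ModuleCat.{u} R) (ComplexShape.up ℤ) m).obj
        (ModuleCat.of R (Fin r → R))) := fun i => by
  by_cases h : i = m
  · subst h
    let e := (singleObjXSelf (ComplexShape.up ℤ) i (ModuleCat.of R (Fin r → R))).toLinearEquiv.symm
    exact ⟨Module.Finite.equiv e, Module.Free.of_equiv e⟩
  · haveI := ModuleCat.subsingleton_of_isZero
      (isZero_single_obj_X (ComplexShape.up ℤ) m (ModuleCat.of R (Fin r → R)) i h)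
    exact ⟨inferInstance, inferInstance⟩

lemma finiteFree_cone {F E : Cpx R} (g : F ⟶ E) (hF : TermwiseFiniteFree F)
    (hE : TermwiseFiniteFree E) : TermwiseFiniteFree (mappingCone g) := fun i => by
  let e : (F.X (i + 1) × E.X i) ≃ₗ[R] (mappingCone g).X i :=
    ((homotopyCofiber.XIsoBiprod g i (i + 1) (by simp)) ≪≫
      ModuleCat.biprodIsoProd _ _).toLinearEquiv.symm
  haveI := (hF (i + 1)).1
  haveI := (hF (i + 1)).2
  haveI := (hE i).1
  haveI := (hE i).2
  exact ⟨Module.Finite.equiv e, Module.Free.of_equiv e⟩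

lemma isZero_cone_X {F E : Cpx R} (g : F ⟶ E) {i : ℤ} (hF : IsZero (F.X (i + 1)))
    (hE : IsZero (E.X i)) : IsZero ((mappingCone g).X i) :=
  ((biprod_isZero_iff _ _).2 ⟨hF, hE⟩).of_iso (homotopyCofiber.XIsoBiprod g i (i + 1) (by simp))

/-- If the cone of `f : E ⟶ P` is exact from degree `m` on and its cohomology in degree `m - 1`
is finite, then `f` extends to a cone `E ⊕ F[1-m]` with cone exact from degree `m - 1` on. -/
theorem exists_step {P E : Cpx R} {b : ℤ} (f : E ⟶ P) (m : ℤ) (hm : m ≤ b + 1)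
    (hEv : VanishesOutside E m b) (hEf : TermwiseFiniteFree E)
    (hex : ∀ i, m ≤ i → (mappingCone f).ExactAt i)
    (hfin : Module.Finite R ((mappingCone f).homology (m - 1))) :
    ∃ (E' : Cpx R) (ι : E ⟶ E') (f' : E' ⟶ P), ι ≫ f' = f ∧
      VanishesOutside E' (m - 1) b ∧ TermwiseFiniteFree E' ∧
      (∀ i, i ≠ m - 1 → IsIso (ι.f i)) ∧ ∀ i, m - 1 ≤ i → (mappingCone f').ExactAt i := by
  obtain ⟨r, G, hG, hgen⟩ := exists_cycles (mappingCone f) (m - 2) (m - 1) m (by omega) (by omega) hfin
  let e : ModuleCat.of R (Fin r → R) ⟶ E.X m :=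
    G ≫ (mappingCone.fst f).1.v (m - 1) m (by omega)
  let p : ModuleCat.of R (Fin r → R) ⟶ P.X (m - 1) :=
    G ≫ (mappingCone.snd f).v (m - 1) (m - 1) (add_zero _)
  have he : e ≫ E.d m (m + 1) = 0 := by
    have h := mappingCone.d_fst_v f (m - 1) m (m + 1) (by omega) rfl
    have h' := congrArg (G ≫ ·) h
    simp only [reassoc_of% hG, zero_comp, Preadditive.comp_neg] at h'
    simp only [e, Category.assoc]
    rw [← neg_eq_zero]
    simpa using h'.symm
  have hp : e ≫ f.f m + p ≫ P.d (m - 1) m = 0 := by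
    have h' := congrArg (G ≫ ·) (mappingCone.d_snd_v f (m - 1) m (by omega))
    simp only [reassoc_of% hG, zero_comp, Preadditive.comp_add] at h'
    simpa [e, p] using h'.symm
  let F : ModuleCat.{u} R := ModuleCat.of R (Fin r → R)
  let S := (HomologicalComplex.single (ModuleCat.{u} R) (ComplexShape.up ℤ) m).obj F
  let s := singleObjXSelf (ComplexShape.up ℤ) m F
  have hS : ∀ j, j ≠ m → IsZero (S.X j) := fun j hj =>
    isZero_single_obj_X (ComplexShape.up ℤ) m F j hj
  let g : S ⟶ E := mkHomFromSingle e fun k hk => by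
    obtain rfl : m + 1 = k := hk
    exact he
  let α : Cochain S P (-1) := Cochain.mk fun i j hij =>
    if h : i = m then
      eqToHom (by rw [h]) ≫ s.hom ≫ (-p) ≫ eqToHom (by rw [show j = m - 1 by omega])
    else 0
  have hα : α.v m (m - 1) (by omega) = s.hom ≫ (-p) := by
    simp [α, Cochain.mk_v]
  have hg : g.f m = s.hom ≫ e := mkHomFromSingle_f _ _
  have eq : δ (-1) 0 α = Cochain.ofHom (g ≫ f) := by
    refine Cochain.ext _ _ fun i j hij => ?_
    obtain rfl : i = j := by omega
    by_cases h : i = m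
    · subst h
      rw [δ_v (-1) 0 (by omega) α i i _ (i - 1) (i + 1) rfl rfl, Cochain.ofHom_v, comp_f, hg, hα,
        (hS (i + 1) (by omega)).eq_of_tgt (S.d i (i + 1)) 0, zero_comp, smul_zero, add_zero]
      simp only [Category.assoc, Preadditive.comp_neg, Preadditive.neg_comp]
      rw [← Preadditive.comp_neg, neg_eq_of_add_eq_zero_left hp]
    · exact (hS i h).eq_of_src _ _
  refine ⟨mappingCone g, mappingCone.inr g, mappingCone.desc g α f eq, mappingCone.inr_desc g α f eq,
    fun i hi => isZero_cone_X g (hS _ (by omega)) (hEv i (by omega)),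
    finiteFree_cone g (finiteFree_single r m) hEf, fun i hi => ?_, fun i hi => ?_⟩
  · have hz := hS (i + 1) (by omega)
    refine ⟨(mappingCone.snd g).v i i (add_zero i), mappingCone.inr_f_snd_v g i, ?_⟩
    have hid := mappingCone.id_X g i (i + 1) rfl
    rwa [hz.eq_of_tgt ((mappingCone.fst g).1.v i (i + 1) rfl) 0, zero_comp, zero_add] at hid
  -- exactness of the new cone
  set f' := mappingCone.desc g α f eq with hf'
  let φ : mappingCone f ⟶ mappingCone f' :=
    mappingCone.map f f' (mappingCone.inr g) (𝟙 P) (by simp [hf'])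
  have hφl : ∀ j k (h : j + (-1) = k), (mappingCone.inl f).v j k h ≫ φ.f k =
      (mappingCone.inr g).f j ≫ (mappingCone.inl f').v j k h := fun j k h => by
    simp [φ, mappingCone.map]
  have hφr : ∀ k, (mappingCone.inr f).f k ≫ φ.f k = (mappingCone.inr f').f k := fun k => by
    simp [φ, mappingCone.map]
  have hGφ : G ≫ φ.f (m - 1) = (-(s.inv ≫ (mappingCone.inl g).v m (m - 1) (by omega) ≫
      (mappingCone.inl f').v (m - 1) (m - 2) (by omega))) ≫
      (mappingCone f').d (m - 2) (m - 1) := by
    have h1 := mappingCone.inl_v_d f' (m - 1) (m - 2) m (by omega) (by omega)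
    have h2 := mappingCone.inl_v_d g m (m - 1) (m + 1) (by omega) (by omega)
    have hG' : G = e ≫ (mappingCone.inl f).v m (m - 1) (by omega) +
        p ≫ (mappingCone.inr f).f (m - 1) := by
      conv_lhs => rw [← Category.comp_id G, ← mappingCone.id_X f (m - 1) m (by omega)]
      simp [e, p, Preadditive.comp_add]
    have h4 : (mappingCone.inl g).v m (m - 1) (by omega) ≫ f'.f (m - 1) = s.hom ≫ (-p) :=
      (mappingCone.inl_v_desc_f g α f eq m (m - 1) (by omega)).trans hα
    rw [Preadditive.neg_comp, Category.assoc, Category.assoc, h1, Preadditive.comp_sub,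
      Preadditive.comp_sub, ← Category.assoc ((mappingCone.inl g).v m (m - 1) _) (f'.f (m - 1)),
      h4, ← Category.assoc ((mappingCone.inl g).v m (m - 1) _) _ _,
      h2, (hS (m + 1) (by omega)).eq_of_tgt (S.d m (m + 1)) 0, zero_comp, sub_zero, hg]
    simp only [Category.assoc, Preadditive.neg_comp, Preadditive.comp_neg, Iso.inv_hom_id_assoc]
    rw [hG', Preadditive.add_comp, Category.assoc e, Category.assoc p, hφl, hφr]
    abel
  rw [element_exact _ (i - 1) i (i + 1) (by omega) rfl]
  intro x hx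
  let ψ : ∀ k, (mappingCone f').X k ⟶ (mappingCone f).X k := fun k =>
    (mappingCone.fst f').1.v k (k + 1) rfl ≫ (mappingCone.snd g).v (k + 1) (k + 1) (add_zero _) ≫
        (mappingCone.inl f).v (k + 1) k (by omega) +
      (mappingCone.snd f').v k k (add_zero _) ≫ (mappingCone.inr f).f k
  have hψ : ∀ k, φ.f k ≫ ψ k = 𝟙 _ := fun k => by
    rw [mappingCone.ext_from_iff f (k + 1) k rfl]
    constructor
    · rw [← Category.assoc, hφl]
      simp [ψ]
    · rw [← Category.assoc, hφr]
      simp [ψ]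
  obtain ⟨y, rfl⟩ : ∃ y, (φ.f i).hom y = x := by
    have hz := hS (i + 1 + 1) (by omega)
    have hid' := mappingCone.id_X g (i + 1) (i + 1 + 1) rfl
    rw [hz.eq_of_tgt ((mappingCone.fst g).1.v (i + 1) (i + 1 + 1) rfl) 0, zero_comp, zero_add]
      at hid'
    have hid : ψ i ≫ φ.f i = 𝟙 _ := by
      show (_ + _) ≫ φ.f i = 𝟙 _
      rw [Preadditive.add_comp, Category.assoc, Category.assoc, Category.assoc, hφl, hφr,
        reassoc_of% hid']
      exact mappingCone.id_X f' i (i + 1) rfl
    exact ⟨(ψ i).hom x, congrArg (fun t => t.hom x) hid⟩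
  have hy : ((mappingCone f).d i (i + 1)).hom y = 0 := by
    have hmono : Mono (φ.f (i + 1)) := (SplitMono.mk (ψ (i + 1)) (hψ (i + 1))).mono
    refine (ModuleCat.mono_iff_injective _).1 hmono ?_
    rw [map_zero]
    exact (comm_apply (φ.comm i (i + 1)) y).symm.trans hx
  rcases (show m ≤ i ∨ i = m - 1 by omega) with hi' | rfl
  · obtain ⟨w, hw⟩ := (element_exact _ (i - 1) i (i + 1) (by omega) rfl).1 (hex i hi') y hy
    refine ⟨(φ.f (i - 1)).hom w, ?_⟩
    rw [← hw]
    exact comm_apply (φ.comm (i - 1) i) w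
  · obtain ⟨a, w, rfl⟩ := hgen y (by
      rwa [show (m - 1 + 1 : ℤ) = m by omega] at hy)
    have h1 : (φ.f (m - 1)).hom (G.hom a) =
        ((mappingCone f').d (m - 2) (m - 1)).hom ((-(s.inv ≫
          (mappingCone.inl g).v m (m - 1) (by omega) ≫
          (mappingCone.inl f').v (m - 1) (m - 2) (by omega))).hom a) :=
      congrArg (fun t => t.hom a) hGφ
    rw [show (m - 1 - 1 : ℤ) = m - 2 by omega]
    refine ⟨(-(s.inv ≫ (mappingCone.inl g).v m (m - 1) (by omega) ≫
          (mappingCone.inl f').v (m - 1) (m - 2) (by omega))).hom a + (φ.f (m - 2)).hom w, ?_⟩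
    rw [map_add, map_add, h1]
    exact congrArg (_ + ·) (comm_apply (φ.comm (m - 2) (m - 1)) w)

/-- The hypothesis needed to improve an approximation by one degree. -/
def CanStep (P : Cpx R) (b m : ℤ) : Prop :=
  ∀ (E : Cpx R) (f : E ⟶ P), VanishesOutside E m b → TermwiseFiniteFree E →
    (∀ i, m ≤ i → (mappingCone f).ExactAt i) →
      Module.Finite R ((mappingCone f).homology (m - 1))

/-- An approximation in degrees `≥ b + 1 - n`. -/
structure Approx (P : Cpx R) (b : ℤ) (n : ℕ) where
  /-- the finite free complex -/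
  E : Cpx R
  /-- the comparison map -/
  f : E ⟶ P
  vanish : VanishesOutside E (b + 1 - n) b
  free : TermwiseFiniteFree E
  exact : ∀ i, b + 1 - n ≤ i → (mappingCone f).ExactAt i

/-- The empty approximation. -/
noncomputable def Approx.zero {P : Cpx R} {b : ℤ} (hP : VanishesAbove P b) :
    Approx P b 0 where
  E := (HomologicalComplex.single (ModuleCat.{u} R) (ComplexShape.up ℤ) 0).obj
    (ModuleCat.of R (Fin 0 → R))
  f := 0
  vanish i _ := by
    rcases eq_or_ne i 0 with rfl | hi
    · exact (ModuleCat.isZero_of_subsingleton _).of_iso (singleObjXSelf _ _ _)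
    · exact isZero_single_obj_X _ _ _ _ hi
  free := finiteFree_single 0 0
  exact i hi := by
    refine ShortComplex.exact_of_isZero_X₂ _ ?_
    refine isZero_cone_X (0 : (HomologicalComplex.single (ModuleCat.{u} R) (ComplexShape.up ℤ) 0).obj
      (ModuleCat.of R (Fin 0 → R)) ⟶ P) ?_ (hP i (by push_cast at hi; omega))
    rcases eq_or_ne (i + 1) 0 with h | h
    · rw [h]
      exact (ModuleCat.isZero_of_subsingleton _).of_iso (singleObjXSelf _ _ _)
    · exact isZero_single_obj_X _ _ _ _ h

theorem Approx.exists_succ {P : Cpx R} {b : ℤ} {n : ℕ} (a : Approx P b n)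
    (h : CanStep P b (b + 1 - n)) :
    ∃ (a' : Approx P b (n + 1)) (ι : a.E ⟶ a'.E), ι ≫ a'.f = a.f ∧
      ∀ i, i ≠ b - n → IsIso (ι.f i) := by
  obtain ⟨E', ι, f', h1, h2, h3, h4, h5⟩ := exists_step a.f (b + 1 - n) (by omega) a.vanish a.free
    a.exact (h a.E a.f a.vanish a.free a.exact)
  exact ⟨⟨E', f', fun i hi => h2 i (by push_cast at hi; omega), h3,
    fun i hi => h5 i (by push_cast at hi; omega)⟩, ι, h1, fun i hi => h4 i (by omega)⟩

/-- Bounded above complexes where one can step down as far as `m₀` have approximations. -/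
theorem exists_approx {P : Cpx R} {b : ℤ} (hP : VanishesAbove P b) (n : ℕ)
    (h : ∀ m, b + 1 - n < m → m ≤ b + 1 → CanStep P b m) : Nonempty (Approx P b n) := by
  induction n with
  | zero => exact ⟨Approx.zero hP⟩
  | succ n ih =>
    obtain ⟨a⟩ := ih fun m hm hm' => h m (by push_cast; omega) hm'
    obtain ⟨a', _⟩ := a.exists_succ (h _ (by push_cast; omega) (by omega))
    exact ⟨a'⟩

lemma isIso_cone_map {E E' P : Cpx R} (f : E ⟶ P) (f' : E' ⟶ P) (ι : E ⟶ E')
    (comm : f ≫ 𝟙 P = ι ≫ f') (i : ℤ) [IsIso (ι.f (i + 1))] :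
    IsIso ((mappingCone.map f f' ι (𝟙 P) comm).f i) := by
  refine ⟨(mappingCone.fst f').1.v i (i + 1) rfl ≫ inv (ι.f (i + 1)) ≫
      (mappingCone.inl f).v (i + 1) i (by omega) +
    (mappingCone.snd f').v i i (add_zero _) ≫ (mappingCone.inr f).f i, ?_, ?_⟩
  · rw [mappingCone.ext_from_iff f (i + 1) i rfl]
    constructor <;> simp [mappingCone.map]
  · rw [← mappingCone.id_X f' i (i + 1) rfl]
    simp [mappingCone.map]

/-- Bounded above complexes where one can step down indefinitely are quasi-isomorphic to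
bounded above complexes of finite free modules. -/
theorem exists_finiteFree_quasiIso {P : Cpx R} {b : ℤ} (hP : VanishesAbove P b)
    (h : ∀ m, m ≤ b + 1 → CanStep P b m) :
    ∃ (E : Cpx R) (f : E ⟶ P), VanishesAbove E b ∧ TermwiseFiniteFree E ∧
      ∀ i, (mappingCone f).ExactAt i := by
  choose next ι hι hiso using fun (n : ℕ) (a : Approx P b n) => a.exists_succ (h _ (by omega))
  let seq : ∀ n : ℕ, Approx P b n := fun n => Nat.rec (Approx.zero hP) (fun k a => next k a) n
  let F : ℕ ⥤ Cpx R := Functor.ofSequence (X := fun n => (seq n).E) fun n => ι n (seq n)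
  let c : Cocone F := ⟨P, NatTrans.ofSequence (fun n => (seq n).f) fun n => by
    simp only [F, Functor.ofSequence_map_homOfLE_succ]
    exact (hι n (seq n)).trans (Category.comp_id _).symm⟩
  have hev : ∀ (i : ℤ) (n₀ : ℕ), b - n₀ < i →
      (F ⋙ HomologicalComplex.eval _ _ i).IsEventuallyConstantFrom n₀ := fun i n₀ hn₀ => by
    intro j f
    obtain ⟨k, rfl⟩ := Nat.le.dest (leOfHom f)
    obtain rfl : f = homOfLE (Nat.le_add_right _ _) := Subsingleton.elim _ _
    induction k with
    | zero => exact inferInstanceAs (IsIso ((F ⋙ HomologicalComplex.eval _ _ i).map (𝟙 n₀)))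
    | succ k ih =>
      rw [← homOfLE_comp (Nat.le_add_right n₀ k) (Nat.le_succ (n₀ + k)), Functor.map_comp]
      haveI := ih
      haveI : IsIso ((F ⋙ HomologicalComplex.eval _ _ i).map (homOfLE (Nat.le_succ (n₀ + k)))) := by
        simp only [Functor.comp_map, F, Functor.ofSequence_map_homOfLE_succ]
        exact hiso (n₀ + k) (seq (n₀ + k)) i (by push_cast; omega)
      infer_instance
  let f : colimit F ⟶ P := colimit.desc F c
  have hι' : ∀ (i : ℤ) (n : ℕ), b - n < i → IsIso ((colimit.ι F n).f i) := fun i n hn =>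
    (hev i n hn).isIso_ι_of_isColimit
      (isColimitOfPreserves (HomologicalComplex.eval _ _ i) (colimit.isColimit F))
  have hX : ∀ (i : ℤ) (n : ℕ), b - n < i → ((seq n).E.X i ≅ (colimit F).X i) := fun i n hn =>
    @asIso _ _ _ _ ((colimit.ι F n).f i) (hι' i n hn)
  refine ⟨colimit F, f, fun i hi => ((seq 0).vanish i (Or.inr hi)).of_iso
    (hX i 0 (by push_cast; omega)).symm, fun i => ?_, ?_⟩
  · let e := (hX i ((b - i).toNat + 1) (by omega)).toLinearEquiv
    obtain ⟨h1, h2⟩ := (seq ((b - i).toNat + 1)).free i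
    exact ⟨Module.Finite.equiv e, Module.Free.of_equiv e⟩
  have hex : ∀ i, (mappingCone f).ExactAt i := fun i => by
    let n := (b - i).toNat + 2
    let φ := mappingCone.map (seq n).f f (colimit.ι F n) (𝟙 P)
      ((Category.comp_id _).trans (colimit.ι_desc c n).symm)
    have hφ : ∀ j, i - 1 ≤ j → IsIso (φ.f j) := fun j hj =>
      @isIso_cone_map _ _ _ _ _ _ _ _ _ j (hι' (j + 1) n (by omega))
    let e : ∀ j, i - 1 ≤ j → ((mappingCone (seq n).f).X j ≅ (mappingCone f).X j) := fun j hj =>
      @asIso _ _ _ _ (φ.f j) (hφ j hj)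
    have h0 := (seq n).exact i (by omega)
    rw [exactAt_iff' _ (i - 1) i (i + 1) (by simp) (by simp)] at h0 ⊢
    exact (ShortComplex.exact_iff_of_iso (ShortComplex.isoMk (e (i - 1) le_rfl) (e i (by omega))
      (e (i + 1) (by omega)) (φ.comm _ _) (φ.comm _ _))).1 h0
  exact hex

end GrothLib.PCRing24
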