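import Groth.Agent.Lib.PCRing24.Approx
import Groth.Agent.Lib.DCxRing.PC
import Mathlib.Algebra.Homology.DerivedCategory.ExactFunctor

/-!
# Pseudo-coherence over a finite free algebra is detected over the base
-/

set_option autoImplicit false
set_option linter.style.haveILetI false
universe u

open CategoryTheory Limits HomologicalComplex CochainComplex Pretriangulated

attribute [local instance] HasDerivedCategory.standard

namespace GrothLib.PCRing24

section

variable {A : Type u} [CommRing A] {R : Type u} [Ring R] (F : ModuleCat.{u} R ⥤ ModuleCat.{u} A)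
  [F.Additive] [PreservesFiniteLimits F] [PreservesFiniteColimits F]

/-- Exact functors commute with homology. -/
noncomputable def mapHomologyIso (P : Cpx R) (i : ℤ) :
    ((F.mapHomologicalComplex (ComplexShape.up ℤ)).obj P).homology i ≅ F.obj (P.homology i) :=
  (P.sc i).mapHomologyIso F

theorem exactAt_map {P : Cpx R} {i : ℤ} (h : P.ExactAt i) :
    ((F.mapHomologicalComplex (ComplexShape.up ℤ)).obj P).ExactAt i := by
  rw [exactAt_iff_isZero_homology] at h ⊢
  exact (F.map_isZero h).of_iso (mapHomologyIso F P i)

/-- Exact functors commute with the homology of objects of the derived category. -/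
theorem nonempty_homology_map (M : DerivedCategory (ModuleCat.{u} R)) (i : ℤ) :
    Nonempty ((DerivedCategory.homologyFunctor (ModuleCat.{u} A) i).obj (F.mapDerivedCategory.obj M) ≅
      F.obj ((DerivedCategory.homologyFunctor (ModuleCat.{u} R) i).obj M)) := by
  let K := (DerivedCategory.Q (C := ModuleCat.{u} R)).objPreimage M
  let e : DerivedCategory.Q.obj K ≅ M := DerivedCategory.Q.objObjPreimageIso M
  exact ⟨(DerivedCategory.homologyFunctor _ i).mapIso
      (F.mapDerivedCategory.mapIso e.symm ≪≫ F.mapDerivedCategoryFactors.app K) ≪≫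
    (DerivedCategory.homologyFunctorFactors _ i).app _ ≪≫ mapHomologyIso F K i ≪≫
    F.mapIso (((DerivedCategory.homologyFunctorFactors _ i).app K).symm ≪≫
      (DerivedCategory.homologyFunctor _ i).mapIso e)⟩

end

variable (A : Type u) [CommRing A] (R : Type u) [Ring R] [Algebra A R]

theorem finiteFree_compHom [Module.Finite A R] [Module.Free A R] (X : Type u) [AddCommGroup X] [Module R X]
    [Module.Finite R X] [Module.Free R X] :
    letI : Module A X := Module.compHom X (algebraMap A R)
    Module.Finite A X ∧ Module.Free A X := by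
  letI : Module A X := Module.compHom X (algebraMap A R)
  haveI : IsScalarTower A R X := IsScalarTower.of_algebraMap_smul fun _ _ => rfl
  exact ⟨Module.Finite.trans R X, Module.Free.trans (R := A) (S := R) (M := X)⟩

/-- Restriction of a finite free module is finite free. -/
theorem finiteFree_restrict [Module.Finite A R] [Module.Free A R] (X : ModuleCat.{u} R)
    (h₁ : Module.Finite R X) (h₂ : Module.Free R X) :
    Module.Finite A ((ModuleCat.restrictScalars.{u} (algebraMap A R)).obj X) ∧
      Module.Free A ((ModuleCat.restrictScalars.{u} (algebraMap A R)).obj X) :=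
  finiteFree_compHom A R X

variable [Module.Finite A R] [Module.Free A R]
  [PreservesFiniteLimits (ModuleCat.restrictScalars.{u} (algebraMap A R))]
  [PreservesFiniteColimits (ModuleCat.restrictScalars.{u} (algebraMap A R))]

theorem canStep (P : Cpx R) (b m : ℤ)
    (hP : DRing.IsPseudoCoherent A (m - 1)
      (DRing.toD (((ModuleCat.restrictScalars.{u} (algebraMap A R)).mapHomologicalComplex (ComplexShape.up ℤ)).obj P))) :
    CanStep P b m := by
  intro E f hv hf hex
  let F := ModuleCat.restrictScalars.{u} (algebraMap A R)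
  have hfin := GrothLib.DR.finite_cone ((F.mapHomologicalComplex (ComplexShape.up ℤ)).map f) (a := m) (b := b)
    (fun i hi => F.map_isZero (hv i hi)) (fun i => finiteFree_restrict A R (E.X i) (hf i).1 (hf i).2) hP
    fun i hi => (exactAt_map F (hex i hi)).of_iso (mappingCone.mapHomologicalComplexIso f F)
  have hfin' : Module.Finite A (F.obj ((mappingCone f).homology (m - 1))) :=
    @Module.Finite.equiv _ _ _ _ _ _ _ _ hfin
      (((HomologicalComplex.homologyFunctor _ _ (m - 1)).mapIso
          (mappingCone.mapHomologicalComplexIso f F)).symm ≪≫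
        mapHomologyIso F (mappingCone f) (m - 1)).toLinearEquiv
  letI : Module A ((mappingCone f).homology (m - 1)) := Module.compHom _ (algebraMap A R)
  haveI : IsScalarTower A R ((mappingCone f).homology (m - 1)) :=
    IsScalarTower.of_algebraMap_smul fun _ _ => rfl
  haveI : Module.Finite A ((mappingCone f).homology (m - 1)) := hfin'
  exact Module.Finite.of_restrictScalars_finite A R _

theorem exists_finiteFree_rep (M : DerivedCategory (ModuleCat.{u} R))
    (hM : DRing.IsPseudoCoherent' A (((ModuleCat.restrictScalars.{u} (algebraMap A R)).mapDerivedCategory).obj M)) :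
    ∃ (F : CochainComplex (ModuleCat.{u} R) ℤ) (b : ℤ), (∀ i : ℤ, b < i → IsZero (F.X i)) ∧
      (∀ i : ℤ, Module.Finite R (F.X i) ∧ Module.Free R (F.X i)) ∧ Nonempty (DerivedCategory.Q.obj F ≅ M) := by
  let G := ModuleCat.restrictScalars.{u} (algebraMap A R)
  obtain ⟨b, -, hb⟩ := GrothLib.DR.exists_bound (GrothLib.DR.isPseudoCoherent_of_prime hM 0)
  haveI : M.IsLE b := by
    rw [DerivedCategory.isLE_iff]
    intro i hi
    obtain ⟨e⟩ := nonempty_homology_map G M i
    haveI : Subsingleton (G.obj ((DerivedCategory.homologyFunctor (ModuleCat.{u} R) i).obj M)) :=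
      @Equiv.subsingleton _ _ e.toLinearEquiv.toEquiv.symm (hb i hi)
    haveI : Subsingleton ((DerivedCategory.homologyFunctor (ModuleCat.{u} R) i).obj M) :=
      ‹Subsingleton (G.obj ((DerivedCategory.homologyFunctor (ModuleCat.{u} R) i).obj M))›
    exact ModuleCat.isZero_of_subsingleton _
  obtain ⟨P, hP, ⟨eP⟩⟩ := M.exists_iso_Q_obj_of_isLE b
  have hPb : VanishesAbove P b := fun i hi => P.isZero_of_isStrictlyLE b i hi
  let e' : DRing.toD ((G.mapHomologicalComplex (ComplexShape.up ℤ)).obj P) ≅ G.mapDerivedCategory.obj M :=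
    (G.mapDerivedCategoryFactors.app P).symm ≪≫ G.mapDerivedCategory.mapIso eP.symm
  obtain ⟨E, f, hEb, hEf, hex⟩ := exists_finiteFree_quasiIso hPb fun m _ =>
    canStep A R P b m (DerBC.isPseudoCoherent_of_iso e'.symm (GrothLib.DR.isPseudoCoherent_of_prime hM (m - 1)))
  have hz : IsZero (DerivedCategory.Q.obj (mappingCone f)) := by
    haveI : QuasiIso (0 : mappingCone f ⟶ mappingCone f) :=
      ⟨fun i => (quasiIsoAt_iff_exactAt' _ i (hex i)).2 (hex i)⟩
    haveI h0 : IsIso (DerivedCategory.Q.map (0 : mappingCone f ⟶ mappingCone f)) := inferInstance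
    rw [Functor.map_zero] at h0
    exact (IsZero.iff_id_eq_zero _).2 (by
      have := @IsIso.hom_inv_id _ _ _ _ (0 : DerivedCategory.Q.obj (mappingCone f) ⟶ DerivedCategory.Q.obj (mappingCone f)) h0
      rw [zero_comp] at this
      exact this.symm)
  haveI : IsIso (DerivedCategory.Q.map f) :=
    (Triangle.isZero₃_iff_isIso₁ _ (DerivedCategory.mappingCone_triangle_distinguished f)).1 hz
  exact ⟨E, b, hEb, hEf, ⟨asIso (DerivedCategory.Q.map f) ≪≫ eP.symm⟩⟩

end GrothLib.PCRing24
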